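import Groth.Agent.L22.Reg.Forms
import Groth.Agent.L22.EnrSev.Twist
import Groth.Agent.L16.ProjSpace.Sections
import Mathlib.LinearAlgebra.Eigenspace.Triangularizable

/-!
Twisting down by one lowers `h⁰` when no associated point is closed.
-/

set_option autoImplicit false
set_option backward.isDefEq.respectTransparency false
set_option linter.style.haveILetI false
universe u

open CategoryTheory CategoryTheory.Limits AlgebraicGeometry TopologicalSpace Opposite

noncomputable section

namespace Groth.L15.H0Twist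

open Groth.L16
open Groth.L22.Reg
open Groth.L22.EnrSev (down scale)
open Groth.L18.GenLoc (secOf secOf_homOfSection homOfSection_secOf tens)
open Groth.L21.RR (hk mulS mulS_app)

variable {n : ℕ} {k : Type u} [Field k]

theorem aeval_scale {σ R S : Type*} [CommRing R] [CommRing S] [Algebra R S] {p : MvPolynomial σ R} {d : ℕ}
    (hp : p.IsHomogeneous d) (a : σ → R) (y : S) :
    MvPolynomial.aeval (fun i => algebraMap R S (a i) * y) p =
      algebraMap R S (MvPolynomial.eval a p) * y ^ d := by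
  conv_lhs => rw [p.as_sum]
  conv_rhs => rw [p.as_sum]
  rw [map_sum, map_sum, map_sum, Finset.sum_mul]
  refine Finset.sum_congr rfl fun e he => ?_
  have hd : ∑ i ∈ e.support, e i = d := by
    have h := hp (MvPolynomial.mem_support_iff.1 he)
    rw [Finsupp.weight_apply, Finsupp.sum] at h
    simpa using h
  rw [MvPolynomial.aeval_monomial, MvPolynomial.eval_monomial, map_mul, Finsupp.prod, Finsupp.prod, map_prod,
    mul_assoc, ← hd, ← Finset.prod_pow_eq_pow_sum, ← Finset.prod_mul_distrib]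
  congr 1
  refine Finset.prod_congr rfl fun i _ => ?_
  rw [map_pow, mul_pow]

/-- A point at which all forms are constant multiples of one form is closed. -/
theorem isClosed_of_sup_eq_top {x : CohB1.ProjSpace n k} {f₀ : Form n k}
    (h : vanAt x ⊔ Submodule.span k {f₀} = ⊤) : IsClosed ({x} : Set (CohB1.ProjSpace n k)) := by
  have key : ∀ i, ∃ a : k, (MvPolynomial.X i - MvPolynomial.C a * f₀.1 : MvPolynomial (Fin (n + 1)) k) ∈
      x.asHomogeneousIdeal := by
    intro i
    have hm : (⟨MvPolynomial.X i, ProjSpace.X_mem n k i⟩ : Form n k) ∈ vanAt x ⊔ Submodule.span k {f₀} := by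
      rw [h]; trivial
    obtain ⟨m, hm, z, hz, e⟩ := Submodule.mem_sup.1 hm
    obtain ⟨a, rfl⟩ := Submodule.mem_span_singleton.1 hz
    refine ⟨a, ?_⟩
    have e' := congrArg Subtype.val e
    simp only [Submodule.coe_add, Submodule.coe_smul, MvPolynomial.smul_eq_C_mul] at e'
    rw [← e', add_sub_cancel_right]
    exact hm
  choose a ha using key
  refine closure_eq_iff_isClosed.1 (Set.eq_of_subset_of_subset (fun y hy => ?_) subset_closure)
  have hle : x.asHomogeneousIdeal.toIdeal ≤ y.asHomogeneousIdeal.toIdeal :=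
    (ProjectiveSpectrum.le_iff_mem_closure (𝒜 := CohB1.polyGrading n k) x y).2 hy
  have hf₀ : f₀.1 ∉ y.asHomogeneousIdeal.toIdeal := by
    intro hf
    obtain ⟨i, hi⟩ := ProjSpace.exists_mem_basicOpen_X n k y
    refine (Proj.mem_basicOpen _ _ _).1 hi ?_
    have h2 := y.asHomogeneousIdeal.toIdeal.add_mem (hle (ha i))
      (y.asHomogeneousIdeal.toIdeal.mul_mem_left (MvPolynomial.C (a i)) hf)
    rwa [sub_add_cancel] at h2
  have hcong : ∀ (d : ℕ) (p : MvPolynomial (Fin (n + 1)) k), p.IsHomogeneous d →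
      p - MvPolynomial.C (MvPolynomial.eval a p) * f₀.1 ^ d ∈ x.asHomogeneousIdeal.toIdeal := by
    intro d p hp
    rw [← Ideal.Quotient.mk_eq_mk_iff_sub_mem]
    let q := Ideal.Quotient.mkₐ k x.asHomogeneousIdeal.toIdeal
    have hq : ∀ r, q r = Ideal.Quotient.mk _ r := fun r => rfl
    have hX : (fun i => q (MvPolynomial.X i)) = fun i => algebraMap k _ (a i) * q f₀.1 := by
      funext i
      rw [← q.commutes, ← map_mul, hq, hq, Ideal.Quotient.mk_eq_mk_iff_sub_mem]
      exact ha i
    calc Ideal.Quotient.mk _ p = MvPolynomial.aeval (fun i => q (MvPolynomial.X i)) p :=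
          congrArg (fun g : MvPolynomial (Fin (n + 1)) k →ₐ[k] _ => g p) (MvPolynomial.aeval_unique q)
      _ = algebraMap k _ (MvPolynomial.eval a p) * q f₀.1 ^ d := by rw [hX, aeval_scale hp]
      _ = _ := by rw [← q.commutes, ← map_pow, ← map_mul]; rfl
  have hge : y.asHomogeneousIdeal.toIdeal ≤ x.asHomogeneousIdeal.toIdeal := by
    classical
    intro p hp
    rw [← DirectSum.sum_support_decompose (CohB1.polyGrading n k) p]
    refine Ideal.sum_mem _ fun d _ => ?_
    let pd := DirectSum.decompose (CohB1.polyGrading n k) p d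
    have hpy : (pd : MvPolynomial (Fin (n + 1)) k) ∈ y.asHomogeneousIdeal.toIdeal :=
      y.asHomogeneousIdeal.isHomogeneous d hp
    have hc := hcong d pd.1 pd.2
    have hy2 : MvPolynomial.C (MvPolynomial.eval a pd.1) * f₀.1 ^ d ∈ y.asHomogeneousIdeal.toIdeal := by
      have h3 := y.asHomogeneousIdeal.toIdeal.sub_mem hpy (hle hc)
      rwa [sub_sub_cancel] at h3
    have h0 : MvPolynomial.eval a pd.1 = 0 := by
      by_contra hne
      exact hf₀ (y.isPrime.mem_of_pow_mem d ((y.asHomogeneousIdeal.toIdeal.unit_mul_mem_iff_mem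
        ((Ne.isUnit hne).map MvPolynomial.C)).1 hy2))
    rw [h0, map_zero, zero_mul, sub_zero] at hc
    exact hc
  have hxy : y = x := ProjectiveSpectrum.ext (HomogeneousIdeal.ext (le_antisymm hge hle))
  exact hxy

local notation "𝒜" => CohB1.polyGrading n k

/-- The section of `O(1)` of a linear form. -/
def phiF (f : Form n k) : Coh.structureModule (CohB1.ProjSpace n k) ⟶ O' n k (((1 : ℕ) : ℤ)) :=
  ProjTwist.sect 𝒜 f

theorem genLocus_phiF (f : Form n k) :
    CohB1.genLocus (O' n k (((1 : ℕ) : ℤ))) (phiF f) = Proj.basicOpen 𝒜 f.1 :=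
  ProjTwist.genLocus_sect 𝒜 (hcov n k) f

theorem polyToSection_add_smul (g f : Form n k) (c : k) :
    ProjSpace.polyToSection n k 1 (g + c • f) = ProjSpace.polyToSection n k 1 g +
      (show Twist.O (op (⊤ : Opens (ProjectiveSpectrum.top 𝒜))) from
        Coh.toGlobal (CohB1.ProjSpace.toSpec n k) c) • ProjSpace.polyToSection n k 1 f := by
  refine Subtype.ext (funext fun x => Subtype.ext ?_)
  refine Eq.trans ?_ (congrArg (fun t => ((ProjSpace.polyToSection n k 1 g).1 x).1 + t)
    (Twist.coe_smul_val _ _ _ _).symm)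
  erw [ProjSpace.toGlobal_apply_val, Localization.mk_mul]
  refine (ProjSpace.polyToSection_apply 1 (g + c • f) x).trans ?_
  erw [ProjSpace.polyToSection_apply, Localization.add_mk]
  rw [Localization.mk_eq_mk_iff, Localization.r_iff_exists]
  exact ⟨1, by simp [MvPolynomial.smul_eq_C_mul]; ring⟩

theorem secOf_phiF (f : Form n k) :
    secOf (phiF f) = (show Γ(O' n k (((1 : ℕ) : ℤ)), ⊤) from ProjSpace.polyToSection n k 1 f) :=
  secOf_homOfSection (L := O' n k (((1 : ℕ) : ℤ))) _

theorem secOf_phiF_add_smul (g f : Form n k) (c : k) :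
    secOf (phiF (g + c • f)) = secOf (phiF g) + secOf (scale k c (phiF f)) := by
  rw [show secOf (scale k c (phiF f)) = _ from secOf_homOfSection (L := O' n k (((1 : ℕ) : ℤ))) _,
    secOf_phiF, secOf_phiF, secOf_phiF]
  exact polyToSection_add_smul g f c

variable {X : Scheme.{u}} [X.Over (Spec (CommRingCat.of k))]

theorem hk_down_add {Q R : X.Modules} (e : CohB1.tensorMod R Q ≅ Coh.structureModule X) (G : X.Modules)
    {χ α β : Coh.structureModule X ⟶ Q} (h : secOf χ = secOf α + secOf β)
    (w : Coh.HH X (CohB1.tensorMod G R) 0) :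
    hk k (down e G χ) 0 w = hk k (down e G α) 0 w + hk k (down e G β) 0 w := by
  have hm : mulS (CohB1.tensorMod G R) χ = mulS (CohB1.tensorMod G R) α + mulS (CohB1.tensorMod G R) β :=
    Scheme.Modules.hom_ext _ _ fun V => ConcreteCategory.hom_ext _ _ fun t => by
      show tens _ _ V t (Groth.L18.Frame.rs Q le_top (secOf χ)) =
        tens _ _ V t (Groth.L18.Frame.rs Q le_top (secOf α)) + tens _ _ V t (Groth.L18.Frame.rs Q le_top (secOf β))
      rw [h]
      refine (congrArg (tens _ _ V t) (map_add (Q.presheaf.map (homOfLE (le_top : V ≤ ⊤)).op).hom _ _)).trans ?_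
      exact Groth.L00.Tensor.ev_add₂ _ _ _ _ _
  show CohLinear.hmap _ 0 w = CohLinear.hmap _ 0 w + CohLinear.hmap _ 0 w
  rw [← Groth.L21.RR.hmap_add]
  refine congrArg (fun f => CohLinear.hmap f 0 w) ?_
  show mulS _ χ ≫ _ = mulS _ α ≫ _ + mulS _ β ≫ _
  rw [hm, Preadditive.add_comp]

theorem h0_twist_lt [IsAlgClosed k] {F : (CohB1.ProjSpace n k).Modules} (hF : Coh.IsCoh F)
    (hass : ∀ x, Curv2.IsAssPoint F x → ¬ IsClosed ({x} : Set (CohB1.ProjSpace n k)))
    (h0 : 1 ≤ Module.finrank k (Coh.HH (CohB1.ProjSpace n k) F 0)) :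
    Module.finrank k (Coh.HH (CohB1.ProjSpace n k) (tw' F (-1)) 0) + 1 ≤
      Module.finrank k (Coh.HH (CohB1.ProjSpace n k) F 0) := by
  classical
  haveI := isProper_over_proj (k := k) (n := n)
  haveI := Groth.L21.RR.isNoetherian_of_proper (X := CohB1.ProjSpace n k) k
  haveI := hF.1
  have hR := ProjTwist.isInvertible_twistProjSpace n k (-1)
  have hQ := ProjTwist.isInvertible_twistProjSpace n k ((1 : ℕ) : ℤ)
  have hc : Coh.IsCoh (tw' F (-1)) := Groth.L03.Euler.isCoh_tensor hR hF
  haveI := hc.1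
  let e : CohB1.tensorMod (O' n k (-1)) (O' n k ((1 : ℕ) : ℤ)) ≅ Coh.structureModule (CohB1.ProjSpace n k) :=
    (nonempty_O_add (n := n) (R := k) (show (-1 : ℤ) + ((1 : ℕ) : ℤ) = 0 by norm_num)).some ≪≫
      (nonempty_O_zero n k).some
  let W := Coh.HH (CohB1.ProjSpace n k) (tw' F (-1)) 0
  let V := Coh.HH (CohB1.ProjSpace n k) F 0
  haveI : Module.Finite k V := Groth.L16.ProperFinite.finite_HH k hF 0
  haveI : Module.Finite k W := Groth.L16.ProperFinite.finite_HH k hc 0
  let S : Set (CohB1.ProjSpace n k) := {x | Curv2.IsAssPoint F x}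
  have hS : S.Finite := Groth.L22.EnrSev.finite_setOf_isAssPoint hF.2
  haveI : Finite S := hS.to_subtype
  let Φ : Form n k → (W →ₗ[k] V) := fun f => hk k (down e F (phiF f)) 0
  have hinj : ∀ f : Form n k, (∀ x ∈ S, f ∉ vanAt x) → Function.Injective (Φ f) := by
    intro f hf
    haveI : Mono (down e F (phiF f)) := Groth.L22.EnrSev.mono_of_injective_ass _ fun x hx => by
      refine (Groth.L22.EnrSev.bijective_down e F hQ ?_).injective
      rw [genLocus_phiF]
      exact not_not.1 fun h => hf x ((Groth.L22.EnrSev.isAssPoint_tensor_iff hR F x).1 hx) (mem_vanAt.2 h)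
    exact Groth.L21.RR.injective_hmap_zero _
  obtain ⟨f₀, hf₀⟩ := exists_form_avoiding hS
  have hf₀' : ∀ x ∈ S, f₀ ∉ vanAt x := fun x hx h => mem_vanAt.1 h (hf₀ x hx)
  obtain ⟨g, hg⟩ := Submodule.exists_forall_notMem_of_forall_ne_top
    (fun x : S => vanAt x.1 ⊔ Submodule.span k {f₀}) fun x h => hass x.1 x.2 (isClosed_of_sup_eq_top h)
  have hle : Module.finrank k W ≤ Module.finrank k V := LinearMap.finrank_le_finrank_of_injective (hinj f₀ hf₀')
  by_contra hlt
  have heq : Module.finrank k W = Module.finrank k V := by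
    show Module.finrank k W = Module.finrank k V
    simp only [W, V] at hle ⊢
    omega
  haveI : Nontrivial W := Module.nontrivial_of_finrank_pos (R := k) (by rw [heq]; exact h0)
  let E : W ≃ₗ[k] V := LinearEquiv.ofBijective (Φ f₀)
    ⟨hinj f₀ hf₀', (LinearMap.injective_iff_surjective_of_finrank_eq_finrank heq).1 (hinj f₀ hf₀')⟩
  obtain ⟨c, hc'⟩ := Module.End.exists_eigenvalue (E.symm.toLinearMap ∘ₗ Φ g)
  obtain ⟨w, hw, hw0⟩ := hc'.exists_hasEigenvector
  rw [Module.End.mem_eigenspace_iff] at hw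
  have hgw : Φ g w = c • Φ f₀ w := by
    have := congrArg E hw
    rw [LinearMap.comp_apply, LinearEquiv.coe_coe, LinearEquiv.apply_symm_apply, map_smul] at this
    exact this
  have hav : ∀ x ∈ S, g + (-c) • f₀ ∉ vanAt x := fun x hx hm => hg ⟨x, hx⟩ (Submodule.mem_sup.2
    ⟨_, hm, c • f₀, Submodule.smul_mem _ _ (Submodule.mem_span_singleton_self f₀), by
      show g + (-c) • f₀ + c • f₀ = g
      rw [add_assoc, ← add_smul, neg_add_cancel, zero_smul, add_zero]⟩)
  refine hw0 (hinj _ hav ?_)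
  rw [map_zero]
  show hk k (down e F (phiF _)) 0 w = 0
  rw [hk_down_add e F (secOf_phiF_add_smul g f₀ (-c)) w, Groth.L22.EnrSev.hk_down_scale, LinearMap.smul_apply]
  show Φ g w + (-c) • Φ f₀ w = 0
  rw [hgw, ← add_smul, add_neg_cancel, zero_smul]

theorem h0_twist_eq_zero [IsAlgClosed k] {F : (CohB1.ProjSpace n k).Modules} (hF : Coh.IsCoh F)
    (hass : ∀ x, Curv2.IsAssPoint F x → ¬ IsClosed ({x} : Set (CohB1.ProjSpace n k))) :
    ∀ m : ℕ, Module.finrank k (Coh.HH (CohB1.ProjSpace n k) F 0) ≤ m →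
      Subsingleton (Coh.HH (CohB1.ProjSpace n k) (tw' F (-(m : ℤ))) 0) := by
  haveI := isProper_over_proj (k := k) (n := n)
  haveI := Groth.L21.RR.isNoetherian_of_proper (X := CohB1.ProjSpace n k) k
  intro m hm
  have key : ∀ j : ℕ, Module.finrank k (Coh.HH (CohB1.ProjSpace n k) (tw' F (-(j : ℤ))) 0) ≤
      Module.finrank k (Coh.HH (CohB1.ProjSpace n k) F 0) - j := by
    intro j
    induction j with
    | zero =>
      obtain ⟨e⟩ := nonempty_tw_zero F
      rw [Nat.sub_zero]
      refine le_of_eq ?_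
      exact Groth.L21.RR.h_congr k e 0
    | succ j ih =>
      obtain ⟨e⟩ := nonempty_tw_tw F (show (-(j : ℤ)) + -1 = -((j + 1 : ℕ) : ℤ) by push_cast; ring)
      rw [show Module.finrank k (Coh.HH (CohB1.ProjSpace n k) (tw' F (-((j + 1 : ℕ) : ℤ))) 0) = _ from (Groth.L21.RR.h_congr k e 0).symm]
      show Module.finrank k (Coh.HH (CohB1.ProjSpace n k) (tw' (tw' F (-(j : ℤ))) (-1)) 0) ≤ _
      have hR := ProjTwist.isInvertible_twistProjSpace n k (-(j : ℤ))
      have hGF : Coh.IsCoh (tw' F (-(j : ℤ))) := Groth.L03.Euler.isCoh_tensor hR hF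
      by_cases hz : Module.finrank k (Coh.HH (CohB1.ProjSpace n k) (tw' F (-(j : ℤ))) 0) = 0
      · haveI := hF.1
        have h1 : Module.finrank k (Coh.HH (CohB1.ProjSpace n k) (tw' (tw' F (-(j : ℤ))) (-1)) 0) = 0 := by
          haveI := hGF.1
          have hR1 := ProjTwist.isInvertible_twistProjSpace n k (-1)
          haveI := (Groth.L03.Euler.isCoh_tensor hR1 hGF).1
          haveI : Module.Finite k (Coh.HH (CohB1.ProjSpace n k) (tw' F (-(j : ℤ))) 0) :=
            Groth.L16.ProperFinite.finite_HH k hGF 0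
          obtain ⟨f, hf⟩ := exists_form_avoiding (n := n) (k := k)
            (Groth.L22.EnrSev.finite_setOf_isAssPoint hGF.2)
          haveI : Mono (mu (sigmaF f) (tw' F (-(j : ℤ)))) := mono_mu_sigmaF hGF f hf
          exact Nat.le_zero.1 ((LinearMap.finrank_le_finrank_of_injective
            (f := hk k (mu (sigmaF f) (tw' F (-(j : ℤ)))) 0) (Groth.L21.RR.injective_hmap_zero _)).trans hz.le)
        rw [h1]; exact Nat.zero_le _
      · have h2 := h0_twist_lt hGF (fun x hx => hass x ((Groth.L22.EnrSev.isAssPoint_tensor_iff hR F x).1 hx))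
          (Nat.one_le_iff_ne_zero.2 hz)
        omega
  haveI : Module.Finite k (Coh.HH (CohB1.ProjSpace n k) (tw' F (-(m : ℤ))) 0) :=
    Groth.L16.ProperFinite.finite_HH k
      (Groth.L03.Euler.isCoh_tensor (ProjTwist.isInvertible_twistProjSpace n k _) hF) 0
  exact (Module.finrank_zero_iff (R := k)).1 (Nat.le_zero.1 ((key m).trans (by omega)))

end Groth.L15.H0Twist
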